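import Cfsg.Agent.H347.HX.D42.Base

/-!
# `³D₄(2)`: certificates for the orders of the centralizers (helper347)
-/

set_option autoImplicit false
set_option maxRecDepth 100000
set_option Elab.async false

namespace Cfsg.Agent.H347.HX.D42

/-- class 2, elements of order 2 -/
def c2 : Cl := ⟨dg 10 1023 X2, 2, [⟨300, [], [(1, 1)], [], 24⟩,
  ⟨206, [(300, 3), (507, 3)], [(1, 3)], [], 96⟩,
  ⟨73, [(507, 1), (206, 3), (227, 2)], [], [], 4⟩,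
  ⟨4, [(61, 1), (206, 2)], [], [], 1⟩,
  ⟨85, [(9, 1), (300, 3), (206, 3)], [(1, 3)], [], 1⟩,
  ⟨380, [(507, 2), (206, 2), (61, 3), (4, 3)], [], [], 1⟩,
  ⟨5, [(206, 2), (227, 2), (61, 2), (9, 2), (507, 3), (41, 3), (486, 3), (4, 3), (380, 3)], [], [], 1⟩,
  ⟨198, [(11, 1), (300, 2), (61, 2)], [(1, 3)], [], 1⟩,
  ⟨559, [(300, 2), (61, 2), (206, 3), (41, 2), (85, 2), (380, 3)], [], [], 1⟩,
  ⟨235, [(300, 2), (85, 2), (73, 3), (771, 2)], [(1, 2)], [], 1⟩,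
  ⟨0, [(4, 1), (9, 1)], [], [], 1⟩,
  ⟨1, [(9, 1), (4, 2)], [], [], 1⟩,
  ⟨3, [(0, 1), (300, 2)], [(1, 0)], [], 1⟩,
  ⟨6, [(0, 1), (300, 3), (380, 3), (419, 3)], [], [], 1⟩,
  ⟨8, [(1, 1), (507, 2), (227, 2), (300, 3)], [(1, 3)], [], 1⟩,
  ⟨14, [(0, 1), (6, 1)], [], [], 1⟩,
  ⟨15, [(235, 1), (1, 1)], [], [], 1⟩,
  ⟨16, [(1, 1), (8, 1)], [], [], 1⟩,
  ⟨22, [(5, 1), (11, 1)], [], [], 1⟩,
  ⟨29, [(300, 1), (1, 1)], [], [], 1⟩,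
  ⟨30, [(1, 1), (235, 2)], [], [], 1⟩,
  ⟨33, [(380, 1), (2, 1)], [], [], 1⟩,
  ⟨34, [(3, 1), (206, 2), (15, 3)], [(1, 1)], [], 1⟩,
  ⟨43, [(6, 1), (22, 1)], [], [], 1⟩,
  ⟨53, [(198, 1), (1, 1)], [], [], 1⟩,
  ⟨60, [(3, 1), (206, 3), (5, 2)], [(1, 1)], [], 1⟩,
  ⟨148, [(14, 1), (206, 2)], [], [], 1⟩,
  ⟨302, [(61, 1), (50, 1)], [], [], 1⟩,
  ⟨358, [(16, 1), (88, 2)], [], [], 1⟩,
  ⟨376, [(30, 1), (34, 2)], [], [], 1⟩,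
  ⟨457, [(60, 1), (5, 2)], [], [], 1⟩,
  ⟨584, [(57, 1), (34, 1)], [], [], 1⟩,
  ⟨620, [(50, 1), (102, 2)], [], [], 1⟩]⟩

theorem r2 : run 819 co c2.X c2.m base c2.l [] = true := by decide +kernel
theorem t2 : tb 819 fl [0] c2.X = true := by decide +kernel
theorem k2 : ts.map (cnc 819 co c2.X) = [27, 24, 384, 27] := by decide +kernel

/-- class 3, elements of order 3 -/
def c3 : Cl := ⟨dg 10 1023 X3, 3, [⟨142, [], [(1, 1)], [], 27⟩,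
  ⟨498, [(158, 2)], [(1, 1)], [], 8⟩,
  ⟨771, [(283, 1), (142, 3), (82, 3), (498, 2)], [], [], 7⟩,
  ⟨512, [(158, 2), (637, 2), (498, 2)], [(1, 2)], [], 3⟩,
  ⟨85, [(158, 2), (225, 2)], [(1, 1)], [], 1⟩,
  ⟨148, [(142, 2), (771, 2), (637, 3), (512, 2), (498, 3)], [(1, 2)], [], 1⟩,
  ⟨198, [(352, 1), (82, 2), (37, 3), (602, 2)], [], [], 1⟩,
  ⟨491, [(225, 1), (142, 2), (352, 3), (161, 2), (82, 3)], [], [], 1⟩,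
  ⟨559, [(158, 2), (602, 2), (115, 2), (299, 2), (159, 3)], [], [], 1⟩,
  ⟨235, [(37, 1), (225, 2)], [], [], 1⟩,
  ⟨0, [(26, 1), (85, 2)], [(1, 2)], [], 1⟩,
  ⟨1, [(0, 1), (225, 2)], [], [], 1⟩,
  ⟨3, [(37, 1), (512, 2)], [], [], 1⟩,
  ⟨4, [(0, 1), (11, 2)], [], [], 1⟩,
  ⟨8, [(1, 1), (45, 1)], [], [], 1⟩,
  ⟨16, [(1, 1), (45, 2)], [], [], 1⟩,
  ⟨24, [(262, 1), (498, 2)], [], [], 1⟩,
  ⟨25, [(771, 1), (158, 2)], [], [], 1⟩,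
  ⟨30, [(1, 1), (142, 2)], [], [], 1⟩,
  ⟨50, [(1, 1), (771, 2)], [], [], 1⟩,
  ⟨113, [(4, 1), (114, 2)], [], [], 1⟩,
  ⟨170, [(160, 1), (235, 2)], [], [], 1⟩,
  ⟨376, [(88, 1), (30, 1)], [], [], 1⟩,
  ⟨378, [(30, 1), (384, 2)], [], [], 1⟩,
  ⟨464, [(244, 1), (32, 2)], [], [], 1⟩,
  ⟨584, [(115, 1), (559, 2)], [], [], 1⟩]⟩

theorem r3 : run 819 co c3.X c3.m base c3.l [] = true := by decide +kernel
theorem t3 : tb 819 fl [4, 0, 4, 0] c3.X = true := by decide +kernel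
theorem k3 : ts.map (cnc 819 co c3.X) = [0, 27, 216, 819] := by decide +kernel

/-- class 4, elements of order 3 -/
def c4 : Cl := ⟨dg 10 1023 X4, 3, [⟨20, [], [(1, 2)], [], 162⟩,
  ⟨207, [(11, 1)], [(1, 3)], [], 12⟩,
  ⟨85, [(20, 2), (192, 2), (11, 3), (207, 3)], [(1, 2)], [], 1⟩,
  ⟨1, [(5, 1), (83, 3), (207, 3)], [(1, 2)], [], 1⟩,
  ⟨4, [(35, 1), (2, 1)], [], [], 1⟩,
  ⟨8, [(1, 1), (11, 2), (20, 3)], [(1, 2)], [], 1⟩,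
  ⟨21, [(4, 1), (5, 2), (207, 3)], [(1, 2)], [], 1⟩,
  ⟨22, [(20, 1)], [(1, 0)], [], 1⟩,
  ⟨38, [(363, 1), (4, 1)], [], [], 1⟩,
  ⟨39, [(5, 1), (38, 2)], [], [], 1⟩,
  ⟨41, [(4, 1), (21, 1)], [], [], 1⟩,
  ⟨42, [(5, 1), (20, 2)], [], [], 1⟩,
  ⟨43, [(22, 1), (85, 2), (38, 3), (5, 2)], [], [], 1⟩,
  ⟨44, [(83, 1), (3, 2)], [], [], 1⟩,
  ⟨45, [(11, 1), (83, 1)], [], [], 1⟩,
  ⟨50, [(1, 1), (152, 2)], [], [], 1⟩,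
  ⟨51, [(2, 1), (20, 2), (85, 3), (118, 3), (43, 2)], [], [], 1⟩,
  ⟨53, [(1, 1), (20, 3), (51, 2), (11, 2)], [], [], 1⟩,
  ⟨56, [(1, 1), (20, 3), (34, 2), (164, 3)], [], [], 1⟩,
  ⟨57, [(2, 1), (104, 1)], [], [], 1⟩,
  ⟨59, [(2, 1), (20, 2), (29, 3), (5, 3)], [], [], 1⟩,
  ⟨148, [(45, 1), (38, 2)], [], [], 1⟩,
  ⟨186, [(5, 1), (184, 1)], [], [], 1⟩,
  ⟨195, [(8, 1), (104, 1)], [], [], 1⟩,
  ⟨200, [(8, 1), (162, 2)], [], [], 1⟩,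
  ⟨222, [(33, 1), (42, 2)], [], [], 1⟩,
  ⟨235, [(15, 1), (160, 2)], [], [], 1⟩,
  ⟨258, [(44, 1), (57, 2)], [], [], 1⟩,
  ⟨267, [(51, 1), (147, 2)], [], [], 1⟩,
  ⟨276, [(41, 1), (132, 2)], [], [], 1⟩,
  ⟨302, [(87, 1), (50, 1)], [], [], 1⟩,
  ⟨375, [(72, 1), (187, 1)], [], [], 1⟩]⟩

theorem r4 : run 819 co c4.X c4.m base c4.l [] = true := by decide +kernel
theorem t4 : tb 819 fl [2, 0] c4.X = true := by decide +kernel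
theorem k4 : ts.map (cnc 819 co c4.X) = [9, 0, 162, 819] := by decide +kernel

/-- class 5, elements of order 4 -/
def c5 : Cl := ⟨dg 10 1023 X5, 4, [⟨517, [], [(2, 1)], [], 24⟩,
  ⟨71, [(513, 1)], [(1, 3)], [], 8⟩,
  ⟨8, [(71, 1), (517, 3), (306, 3)], [(1, 2)], [], 1⟩,
  ⟨85, [(46, 1), (479, 2), (8, 3)], [(2, 3)], [], 1⟩,
  ⟨456, [(306, 1), (443, 2), (46, 3), (426, 3)], [], [], 1⟩,
  ⟨302, [(479, 2), (46, 2), (443, 3), (8, 3), (71, 3)], [(1, 2)], [], 1⟩,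
  ⟨584, [(443, 2), (306, 2), (11, 3), (16, 3), (275, 3), (67, 3)], [(1, 2)], [], 1⟩,
  ⟨380, [(517, 2), (389, 2), (275, 2), (443, 3), (302, 3)], [], [], 1⟩,
  ⟨5, [(443, 2), (8, 2), (16, 2), (206, 2)], [], [], 1⟩,
  ⟨620, [(448, 1), (608, 2)], [], [], 1⟩,
  ⟨148, [(517, 2), (8, 2), (38, 2), (21, 3)], [(2, 2)], [], 1⟩,
  ⟨198, [(11, 1), (620, 2)], [], [], 1⟩,
  ⟨491, [(306, 2), (456, 2), (785, 2)], [], [], 1⟩,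
  ⟨559, [(673, 1), (426, 2)], [], [], 1⟩,
  ⟨235, [(71, 2), (426, 2), (18, 2), (77, 2), (456, 3)], [], [], 1⟩,
  ⟨1, [(8, 1), (16, 1)], [], [], 1⟩,
  ⟨376, [(479, 1), (21, 2)], [], [], 1⟩]⟩

theorem r5 : run 819 co c5.X c5.m base c5.l [] = true := by decide +kernel
theorem t5 : tb 819 fl [4, 2, 4, 3, 1] c5.X = true := by decide +kernel
theorem k5 : ts.map (cnc 819 co c5.X) = [3, 0, 432, 3] := by decide +kernel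

end Cfsg.Agent.H347.HX.D42
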