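import Cfsg.Agent.H347.HX.D42.Base

/-!
# `³D₄(2)`: certificates for the orders of the centralizers (helper347)
-/

set_option autoImplicit false
set_option maxRecDepth 100000
set_option Elab.async false

namespace Cfsg.Agent.H347.HX.D42

/-- class 6, elements of order 4 -/
def c6 : Cl := ⟨dg 10 1023 X6, 4, [⟨118, [], [(1, 1)], [], 12⟩,
  ⟨636, [(118, 1), (205, 2)], [], [], 16⟩,
  ⟨444, [(679, 1), (448, 2), (118, 2)], [], [], 8⟩,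
  ⟨228, [(444, 2), (760, 2), (448, 2)], [(1, 2)], [], 3⟩,
  ⟨6, [(444, 2), (636, 3), (228, 3)], [(1, 2)], [], 1⟩,
  ⟨7, [(444, 2), (448, 3), (160, 3), (28, 2)], [(1, 2)], [], 1⟩,
  ⟨11, [(2, 1), (226, 2)], [], [], 1⟩,
  ⟨15, [(11, 2), (448, 2), (324, 3), (228, 3)], [(1, 2)], [], 1⟩,
  ⟨16, [(41, 2), (228, 3), (2, 3)], [(1, 2)], [], 1⟩,
  ⟨17, [(324, 1), (223, 1)], [], [], 1⟩,
  ⟨18, [(2, 1), (118, 2), (44, 2), (40, 3)], [], [], 1⟩,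
  ⟨22, [(365, 1), (160, 1)], [], [], 1⟩,
  ⟨25, [(11, 2), (128, 2), (223, 2)], [(1, 2)], [], 1⟩,
  ⟨31, [(2, 1), (636, 2)], [], [], 1⟩,
  ⟨32, [(2, 1), (324, 2)], [], [], 1⟩,
  ⟨46, [(11, 2), (22, 2)], [(1, 0)], [], 1⟩,
  ⟨53, [(444, 1), (63, 2)], [], [], 1⟩,
  ⟨85, [(46, 1), (118, 2)], [(1, 0)], [], 1⟩,
  ⟨148, [(760, 1), (14, 1)], [], [], 1⟩,
  ⟨198, [(11, 1), (53, 1)], [], [], 1⟩,
  ⟨214, [(15, 1), (636, 2)], [], [], 1⟩,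
  ⟨235, [(15, 1), (160, 2)], [], [], 1⟩,
  ⟨248, [(25, 1), (113, 2)], [], [], 1⟩,
  ⟨263, [(25, 1), (64, 2)], [], [], 1⟩,
  ⟨376, [(30, 1), (34, 2)], [], [], 1⟩,
  ⟨439, [(636, 1), (2, 2)], [], [], 1⟩,
  ⟨456, [(205, 1), (32, 1)], [], [], 1⟩,
  ⟨491, [(64, 1), (29, 2)], [], [], 1⟩,
  ⟨559, [(18, 1), (116, 2)], [], [], 1⟩]⟩

theorem r6 : run 819 co c6.X c6.m base c6.l [] = true := by decide +kernel
theorem t6 : tb 819 fl [4, 2, 4, 3, 2] c6.X = true := by decide +kernel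
theorem k6 : ts.map (cnc 819 co c6.X) = [7, 12, 96, 7] := by decide +kernel

/-- class 7, elements of order 4 -/
def c7 : Cl := ⟨dg 10 1023 X7, 4, [⟨96, [], [(1, 3)], [], 64⟩,
  ⟨217, [(96, 1), (48, 2), (49, 2)], [], [], 8⟩,
  ⟨26, [(219, 2), (96, 3), (23, 2)], [(1, 3)], [], 7⟩,
  ⟨115, [(49, 2), (219, 2), (23, 3), (101, 2), (26, 3)], [], [], 3⟩,
  ⟨85, [(96, 3), (217, 3)], [(1, 1)], [], 1⟩,
  ⟨584, [(115, 1), (96, 3), (23, 3), (26, 2), (101, 3)], [], [], 1⟩,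
  ⟨380, [(96, 1), (48, 2), (52, 3), (584, 3)], [], [], 1⟩,
  ⟨5, [(162, 2), (346, 2), (703, 2), (96, 2)], [(1, 3)], [], 1⟩,
  ⟨620, [(23, 2), (217, 2), (703, 2), (219, 2), (115, 2), (383, 2)], [], [], 1⟩,
  ⟨148, [(49, 2), (162, 2), (115, 3), (46, 2), (48, 3)], [], [], 1⟩,
  ⟨198, [(53, 1), (346, 1)], [], [], 1⟩,
  ⟨491, [(49, 2), (383, 2), (23, 2), (346, 2), (5, 2)], [], [], 1⟩,
  ⟨559, [(48, 2), (440, 2), (198, 2)], [], [], 1⟩,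
  ⟨235, [(48, 2), (85, 2), (736, 2), (620, 2)], [], [], 1⟩,
  ⟨0, [(96, 2)], [(1, 1)], [], 1⟩,
  ⟨3, [(0, 1), (217, 2), (214, 3), (584, 2), (115, 3)], [], [], 1⟩,
  ⟨6, [(115, 1), (217, 2)], [], [], 1⟩,
  ⟨12, [(561, 1), (576, 2)], [], [], 1⟩,
  ⟨32, [(2, 1), (214, 2)], [], [], 1⟩,
  ⟨34, [(584, 1), (576, 2)], [], [], 1⟩,
  ⟨220, [(12, 1), (374, 2)], [], [], 1⟩,
  ⟨376, [(30, 1), (34, 2)], [], [], 1⟩,
  ⟨456, [(32, 1), (96, 2)], [], [], 1⟩]⟩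

theorem r7 : run 819 co c7.X c7.m base c7.l [] = true := by decide +kernel
theorem t7 : tb 819 fl [4, 3] c7.X = true := by decide +kernel
theorem k7 : ts.map (cnc 819 co c7.X) = [15, 4, 736, 15] := by decide +kernel

/-- class 8, elements of order 6 -/
def c8 : Cl := ⟨dg 10 1023 X8, 6, [⟨285, [], [(2, 1), (1, 3)], [], 24⟩,
  ⟨382, [(283, 1), (285, 2)], [(3, 3), (1, 3)], [], 3⟩,
  ⟨376, [(552, 2), (283, 2), (422, 2)], [(1, 2), (2, 2)], [], 1⟩,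
  ⟨8, [(498, 2), (542, 3), (382, 3)], [(3, 1)], [], 1⟩,
  ⟨85, [(498, 2), (382, 2), (422, 3), (8, 3)], [(2, 1)], [], 1⟩,
  ⟨456, [(285, 2), (498, 2), (463, 2), (17, 2), (484, 2)], [(2, 3)], [], 1⟩,
  ⟨302, [(422, 1), (352, 2)], [(1, 2)], [], 1⟩,
  ⟨584, [(542, 2), (552, 2), (376, 3), (236, 2)], [(1, 2)], [], 1⟩,
  ⟨380, [(376, 2), (155, 2), (352, 2), (693, 2)], [(1, 2)], [], 1⟩,
  ⟨5, [(36, 1), (519, 2)], [], [], 1⟩,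
  ⟨620, [(285, 2), (283, 2), (382, 2), (17, 3)], [], [], 1⟩,
  ⟨148, [(484, 1), (271, 2)], [], [], 1⟩,
  ⟨198, [(352, 1), (758, 2)], [], [], 1⟩,
  ⟨491, [(693, 1), (141, 2)], [], [], 1⟩,
  ⟨559, [(155, 1), (498, 2), (73, 2)], [(3, 3)], [], 1⟩,
  ⟨235, [(519, 1), (368, 1)], [], [], 1⟩,
  ⟨4, [(41, 1), (285, 2)], [], [], 1⟩]⟩

theorem r8 : run 819 co c8.X c8.m base c8.l [] = true := by decide +kernel
theorem t8 : tb 819 fl [4, 0] c8.X = true := by decide +kernel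
theorem k8 : ts.map (cnc 819 co c8.X) = [0, 27, 216, 27] := by decide +kernel

/-- class 9, elements of order 6 -/
def c9 : Cl := ⟨dg 10 1023 X9, 6, [⟨6, [], [(3, 0), (1, 2)], [], 18⟩,
  ⟨246, [(23, 1)], [(2, 3)], [], 12⟩,
  ⟨376, [(394, 1), (249, 2)], [], [], 1⟩,
  ⟨85, [(69, 2), (622, 2), (249, 2), (452, 2)], [(2, 2), (1, 3)], [], 1⟩,
  ⟨456, [(23, 2), (121, 2), (83, 2), (621, 2), (26, 2)], [], [], 1⟩,
  ⟨302, [(6, 2), (285, 2), (44, 2), (621, 3), (452, 2), (23, 2)], [], [], 1⟩,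
  ⟨584, [(6, 2), (394, 2), (622, 2), (395, 2), (270, 2)], [], [], 1⟩,
  ⟨380, [(597, 1), (26, 2), (246, 2), (46, 2)], [], [], 1⟩,
  ⟨5, [(44, 2), (35, 2), (348, 3), (246, 2)], [(2, 2)], [], 1⟩,
  ⟨620, [(394, 1), (44, 2)], [], [], 1⟩,
  ⟨148, [(452, 1), (395, 2)], [], [], 1⟩,
  ⟨198, [(11, 1), (597, 2)], [], [], 1⟩,
  ⟨491, [(64, 1), (270, 1)], [], [], 1⟩,
  ⟨559, [(85, 2), (620, 2), (376, 2), (6, 3)], [(2, 2)], [], 1⟩,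
  ⟨235, [(401, 1), (288, 2)], [], [], 1⟩,
  ⟨4, [(35, 1), (64, 1)], [], [], 1⟩,
  ⟨8, [(200, 1), (195, 1)], [], [], 1⟩]⟩

theorem r9 : run 819 co c9.X c9.m base c9.l [] = true := by decide +kernel
theorem t9 : tb 819 fl [4, 3, 4, 2, 0] c9.X = true := by decide +kernel
theorem k9 : ts.map (cnc 819 co c9.X) = [1, 0, 522, 19] := by decide +kernel

/-- class 10, elements of order 7 -/
def c10 : Cl := ⟨dg 10 1023 X10, 7, [⟨87, [], [(1, 1)], [], 49⟩,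
  ⟨99, [(11, 3), (0, 2), (87, 2)], [(2, 2), (3, 2)], [], 3⟩,
  ⟨4, [(2, 1), (0, 1)], [], [], 1⟩,
  ⟨85, [(9, 1), (87, 2)], [], [], 1⟩,
  ⟨456, [(9, 2), (622, 3), (2, 2), (99, 2)], [(1, 1)], [], 1⟩,
  ⟨302, [(87, 1), (332, 2)], [], [], 1⟩,
  ⟨584, [(22, 2), (306, 2), (443, 2), (1, 2)], [(3, 2)], [], 1⟩,
  ⟨380, [(70, 1), (386, 1)], [], [], 1⟩,
  ⟨5, [(1, 1), (22, 1)], [], [], 1⟩,
  ⟨620, [(289, 2), (1, 2)], [(2, 1)], [], 1⟩,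
  ⟨148, [(45, 1), (163, 2)], [], [], 1⟩,
  ⟨198, [(11, 1), (196, 2)], [], [], 1⟩,
  ⟨491, [(64, 1), (386, 2)], [], [], 1⟩,
  ⟨559, [(55, 1), (87, 2), (208, 3), (196, 2)], [], [], 1⟩,
  ⟨235, [(453, 1), (339, 2)], [], [], 1⟩,
  ⟨166, [(42, 1), (492, 2)], [], [], 1⟩]⟩

theorem r10 : run 819 co c10.X c10.m base c10.l [] = true := by decide +kernel
theorem t10 : tb 819 fl [4, 3, 2, 0] c10.X = true := by decide +kernel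
theorem k10 : ts.map (cnc 819 co c10.X) = [0, 49, 154, 0] := by decide +kernel

end Cfsg.Agent.H347.HX.D42
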