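import Cfsg.Agent.H347.HX.D42.Base

/-!
# `³D₄(2)`: certificates for the orders of the centralizers (helper347)
-/

set_option autoImplicit false
set_option maxRecDepth 100000
set_option Elab.async false

namespace Cfsg.Agent.H347.HX.D42

/-- class 11, elements of order 7 -/
def c11 : Cl := ⟨dg 10 1023 X11, 7, [⟨143, [], [(1, 3)], [], 168⟩,
  ⟨5, [(143, 2)], [(1, 0)], [], 7⟩,
  ⟨456, [(260, 1), (5, 2)], [], [], 1⟩,
  ⟨302, [(143, 2), (260, 2), (288, 2), (5, 3), (76, 3), (598, 3), (519, 3), (752, 3)], [], [], 1⟩,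
  ⟨584, [(682, 1), (456, 3), (455, 2)], [(1, 3)], [], 1⟩,
  ⟨380, [(143, 2), (502, 2), (150, 2), (260, 2)], [(3, 3)], [], 1⟩,
  ⟨620, [(598, 1), (288, 2)], [], [], 1⟩,
  ⟨148, [(150, 1), (475, 2)], [], [], 1⟩,
  ⟨198, [(445, 1), (288, 2)], [], [], 1⟩,
  ⟨491, [(75, 1), (704, 2)], [], [], 1⟩,
  ⟨559, [(752, 2), (564, 2), (143, 3)], [(2, 3)], [], 1⟩,
  ⟨235, [(37, 1), (519, 1)], [], [], 1⟩,
  ⟨0, [(143, 2), (380, 3), (491, 3)], [(1, 0)], [], 1⟩,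
  ⟨2, [(0, 1), (5, 3), (456, 2)], [(1, 0)], [], 1⟩,
  ⟨4, [(0, 1), (2, 1)], [], [], 1⟩,
  ⟨8, [(45, 1), (332, 1)], [], [], 1⟩,
  ⟨9, [(0, 1), (5, 2)], [], [], 1⟩,
  ⟨16, [(169, 1), (149, 1)], [], [], 1⟩,
  ⟨20, [(351, 1), (761, 2)], [], [], 1⟩,
  ⟨46, [(9, 1), (143, 2), (5, 3)], [(1, 0)], [], 1⟩,
  ⟨85, [(9, 1), (46, 1)], [], [], 1⟩,
  ⟨218, [(96, 1), (20, 1)], [], [], 1⟩]⟩

theorem r11 : run 819 co c11.X c11.m base c11.l [] = true := by decide +kernel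
theorem t11 : tb 819 fl [1, 0] c11.X = true := by decide +kernel
theorem k11 : ts.map (cnc 819 co c11.X) = [21, 0, 630, 21] := by decide +kernel

/-- class 12, elements of order 8 -/
def c12 : Cl := ⟨dg 10 1023 X12, 8, [⟨107, [], [(2, 2), (3, 2)], [], 32⟩,
  ⟨184, [(107, 2), (113, 3), (139, 3), (123, 2)], [(2, 2)], [], 3⟩,
  ⟨376, [(61, 2), (123, 2), (98, 2)], [(1, 2), (4, 3)], [], 1⟩,
  ⟨4, [(107, 1)], [(2, 0)], [], 1⟩,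
  ⟨456, [(107, 2), (312, 2), (9, 2), (61, 2), (141, 2)], [], [], 1⟩,
  ⟨302, [(61, 1), (184, 1)], [], [], 1⟩,
  ⟨380, [(376, 2), (389, 2), (342, 2), (573, 2)], [(1, 2)], [], 1⟩,
  ⟨5, [(192, 1), (73, 3)], [(2, 2)], [], 1⟩,
  ⟨620, [(598, 1), (73, 3), (129, 2), (61, 3)], [], [], 1⟩,
  ⟨148, [(141, 1), (321, 2)], [], [], 1⟩,
  ⟨198, [(328, 1), (622, 2)], [], [], 1⟩,
  ⟨491, [(225, 1), (395, 2)], [], [], 1⟩,
  ⟨559, [(770, 1), (574, 2)], [], [], 1⟩,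
  ⟨235, [(770, 1), (192, 2)], [], [], 1⟩,
  ⟨21, [(4, 1), (403, 2)], [], [], 1⟩]⟩

theorem r12 : run 819 co c12.X c12.m base c12.l [] = true := by decide +kernel
theorem t12 : tb 819 fl [4, 2, 4, 0] c12.X = true := by decide +kernel
theorem k12 : ts.map (cnc 819 co c12.X) = [1, 2, 272, 1] := by decide +kernel

/-- class 13, elements of order 8 -/
def c13 : Cl := ⟨dg 10 1023 X13, 8, [⟨96, [], [(2, 3), (1, 2)], [], 32⟩,
  ⟨42, [(118, 2), (110, 3)], [(1, 1)], [], 3⟩,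
  ⟨4, [(191, 1)], [(2, 1)], [], 1⟩,
  ⟨85, [(161, 1), (159, 1)], [], [], 1⟩,
  ⟨456, [(205, 1), (96, 2), (10, 3)], [(1, 3)], [], 1⟩,
  ⟨302, [(87, 1), (191, 3), (105, 3), (118, 3)], [], [], 1⟩,
  ⟨584, [(191, 2), (85, 2), (456, 3)], [(3, 1)], [], 1⟩,
  ⟨380, [(96, 1), (118, 3)], [(3, 2)], [], 1⟩,
  ⟨620, [(58, 2), (205, 2), (42, 2), (650, 2), (159, 2)], [], [], 1⟩,
  ⟨148, [(632, 1), (49, 2), (87, 3)], [(1, 3)], [], 1⟩,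
  ⟨198, [(11, 1), (522, 1)], [], [], 1⟩,
  ⟨491, [(270, 1), (215, 1)], [], [], 1⟩,
  ⟨559, [(110, 2), (42, 2), (584, 2), (118, 3), (58, 3)], [], [], 1⟩,
  ⟨235, [(145, 1), (85, 2)], [], [], 1⟩,
  ⟨8, [(1, 1), (270, 2)], [], [], 1⟩,
  ⟨15, [(1, 1), (138, 2)], [], [], 1⟩,
  ⟨300, [(61, 1), (198, 2)], [], [], 1⟩]⟩

theorem r13 : run 819 co c13.X c13.m base c13.l [] = true := by decide +kernel
theorem t13 : tb 819 fl [3, 0] c13.X = true := by decide +kernel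
theorem k13 : ts.map (cnc 819 co c13.X) = [1, 34, 304, 1] := by decide +kernel

/-- class 14, elements of order 9 -/
def c14 : Cl := ⟨dg 10 1023 X14, 9, [⟨36, [], [(3, 2), (1, 3)], [], 54⟩,
  ⟨376, [(36, 2), (602, 2), (468, 2), (543, 2), (607, 2), (152, 3)], [], [], 1⟩,
  ⟨4, [(152, 2), (607, 2), (602, 3), (132, 3), (376, 3), (189, 2)], [(3, 2)], [], 1⟩,
  ⟨8, [(543, 2), (36, 3), (120, 3)], [(3, 2), (1, 3)], [], 1⟩,
  ⟨85, [(9, 1), (36, 3), (543, 3)], [(4, 3)], [], 1⟩,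
  ⟨456, [(152, 2), (770, 2), (445, 2), (468, 3), (452, 3)], [], [], 1⟩,
  ⟨302, [(61, 1), (36, 2), (468, 2), (152, 3)], [], [], 1⟩,
  ⟨380, [(36, 2), (152, 2), (60, 2), (492, 2), (543, 2)], [], [], 1⟩,
  ⟨5, [(36, 1), (189, 1)], [], [], 1⟩,
  ⟨620, [(60, 1), (152, 3), (36, 2)], [(1, 2)], [], 1⟩,
  ⟨148, [(452, 1), (707, 1)], [], [], 1⟩,
  ⟨198, [(445, 1), (346, 1)], [], [], 1⟩,
  ⟨491, [(311, 1), (652, 2)], [], [], 1⟩,
  ⟨559, [(770, 1), (735, 1)], [], [], 1⟩,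
  ⟨235, [(770, 1), (120, 2)], [], [], 1⟩]⟩

theorem r14 : run 819 co c14.X c14.m base c14.l [] = true := by decide +kernel
theorem t14 : tb 819 fl [2, 0, 1, 0] c14.X = true := by decide +kernel
theorem k14 : ts.map (cnc 819 co c14.X) = [3, 0, 432, 9] := by decide +kernel

/-- class 15, elements of order 12 -/
def c15 : Cl := ⟨dg 10 1023 X15, 12, [⟨19, [], [(3, 2), (2, 3), (1, 2)], [], 12⟩,
  ⟨73, [(83, 2), (91, 3), (8, 3), (17, 2)], [(3, 2)], [], 3⟩,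
  ⟨376, [(70, 1), (61, 2)], [], [], 1⟩,
  ⟨4, [(113, 1)], [(3, 0)], [], 1⟩,
  ⟨85, [(9, 1), (19, 2), (17, 3)], [(1, 3)], [], 1⟩,
  ⟨584, [(34, 1), (123, 2)], [], [], 1⟩,
  ⟨380, [(70, 1), (255, 3)], [(5, 2)], [], 1⟩,
  ⟨620, [(60, 1), (10, 3), (70, 3), (584, 3)], [], [], 1⟩,
  ⟨148, [(141, 1), (46, 2)], [], [], 1⟩,
  ⟨198, [(11, 1), (620, 2)], [], [], 1⟩,
  ⟨491, [(112, 1), (11, 2)], [], [], 1⟩,
  ⟨559, [(106, 1), (622, 2)], [], [], 1⟩,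
  ⟨235, [(453, 1), (784, 2)], [], [], 1⟩,
  ⟨68, [(5, 1), (39, 1)], [], [], 1⟩,
  ⟨302, [(61, 1), (592, 2)], [], [], 1⟩]⟩

theorem r15 : run 819 co c15.X c15.m base c15.l [] = true := by decide +kernel
theorem t15 : tb 819 fl [3, 2, 0] c15.X = true := by decide +kernel
theorem k15 : ts.map (cnc 819 co c15.X) = [1, 12, 366, 7] := by decide +kernel

end Cfsg.Agent.H347.HX.D42
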