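import Cfsg.Agent.H347.HX.D42.Base

/-!
# `³D₄(2)`: certificates for the orders of the centralizers (helper347)
-/

set_option autoImplicit false
set_option maxRecDepth 100000
set_option Elab.async false

namespace Cfsg.Agent.H347.HX.D42

/-- class 16, elements of order 13 -/
def c16 : Cl := ⟨dg 10 1023 X16, 13, [⟨394, [], [(2, 2), (5, 2), (1, 3), (4, 2)], [], 13⟩,
  ⟨376, [(394, 1), (753, 1)], [], [], 1⟩,
  ⟨4, [(426, 2), (659, 2), (745, 2), (696, 3), (753, 2)], [(6, 2)], [], 1⟩,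
  ⟨8, [(426, 2), (765, 2), (663, 2)], [(4, 2)], [], 1⟩,
  ⟨85, [(764, 1), (4, 3), (753, 2)], [(4, 2)], [], 1⟩,
  ⟨456, [(103, 2), (775, 2), (387, 2), (394, 3)], [(6, 2)], [], 1⟩,
  ⟨302, [(369, 1), (23, 2)], [(3, 2)], [], 1⟩,
  ⟨584, [(57, 1), (536, 1)], [], [], 1⟩,
  ⟨380, [(768, 1), (12, 2)], [], [], 1⟩,
  ⟨620, [(394, 1), (792, 1)], [], [], 1⟩,
  ⟨148, [(760, 1), (432, 1)], [], [], 1⟩,
  ⟨198, [(804, 1), (233, 1)], [], [], 1⟩,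
  ⟨235, [(401, 1), (426, 2)], [], [], 1⟩]⟩

theorem r16 : run 819 co c16.X c16.m base c16.l [] = true := by decide +kernel
theorem t16 : tb 819 fl [4, 3, 1, 2, 0] c16.X = true := by decide +kernel
theorem k16 : ts.map (cnc 819 co c16.X) = [0, 13, 286, 0] := by decide +kernel

/-- class 17, elements of order 14 -/
def c17 : Cl := ⟨dg 10 1023 X17, 14, [⟨87, [], [(2, 0), (1, 3)], [], 8⟩,
  ⟨612, [(161, 2), (87, 3)], [(4, 3), (5, 2)], [], 7⟩,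
  ⟨376, [(394, 1), (187, 2)], [], [], 1⟩,
  ⟨8, [(543, 2), (612, 2)], [(7, 0)], [], 1⟩,
  ⟨456, [(87, 2), (161, 2), (381, 2), (394, 3)], [(6, 3)], [], 1⟩,
  ⟨302, [(87, 1), (369, 1)], [], [], 1⟩,
  ⟨584, [(29, 2), (187, 3), (394, 2)], [(6, 3), (7, 1)], [], 1⟩,
  ⟨380, [(49, 2), (370, 3), (373, 2)], [(4, 3), (7, 1)], [], 1⟩,
  ⟨620, [(373, 1), (394, 1)], [], [], 1⟩,
  ⟨148, [(695, 1), (150, 1)], [], [], 1⟩,
  ⟨198, [(53, 1), (445, 1)], [], [], 1⟩,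
  ⟨491, [(612, 1), (161, 2)], [], [], 1⟩,
  ⟨559, [(55, 1), (87, 2), (752, 2)], [(2, 3)], [], 1⟩,
  ⟨235, [(15, 1), (519, 1)], [], [], 1⟩,
  ⟨2, [(161, 3), (456, 2)], [(1, 1)], [], 1⟩,
  ⟨5, [(87, 2), (148, 2)], [(1, 0)], [], 1⟩,
  ⟨46, [(87, 1), (584, 3)], [(1, 1)], [], 1⟩]⟩

theorem r17 : run 819 co c17.X c17.m base c17.l [] = true := by decide +kernel
theorem t17 : tb 819 fl [3, 1, 0] c17.X = true := by decide +kernel
theorem k17 : ts.map (cnc 819 co c17.X) = [5, 8, 350, 5] := by decide +kernel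

/-- class 18, elements of order 18 -/
def c18 : Cl := ⟨dg 10 1023 X18, 18, [⟨71, [], [(7, 1)], [], 18⟩,
  ⟨376, [(76, 2), (299, 2), (122, 2), (20, 3)], [(1, 2)], [], 1⟩,
  ⟨4, [(191, 1), (522, 2)], [], [], 1⟩,
  ⟨85, [(9, 1), (76, 3)], [(1, 3), (4, 2)], [], 1⟩,
  ⟨456, [(761, 1), (92, 1)], [], [], 1⟩,
  ⟨302, [(410, 1), (462, 2)], [], [], 1⟩,
  ⟨584, [(536, 1), (712, 2)], [], [], 1⟩,
  ⟨380, [(232, 1), (499, 2)], [], [], 1⟩,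
  ⟨5, [(22, 1), (42, 1)], [], [], 1⟩,
  ⟨148, [(240, 1), (299, 2)], [], [], 1⟩,
  ⟨198, [(522, 1), (584, 2)], [], [], 1⟩,
  ⟨491, [(64, 1), (227, 2)], [], [], 1⟩,
  ⟨559, [(155, 1), (248, 2)], [], [], 1⟩,
  ⟨235, [(508, 1), (368, 1)], [], [], 1⟩]⟩

theorem r18 : run 819 co c18.X c18.m base c18.l [] = true := by decide +kernel
theorem t18 : tb 819 fl [4, 3, 2, 1] c18.X = true := by decide +kernel
theorem k18 : ts.map (cnc 819 co c18.X) = [1, 18, 288, 1] := by decide +kernel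

/-- class 19, elements of order 21 -/
def c19 : Cl := ⟨dg 10 1023 X19, 21, [⟨12, [], [(9, 3), (2, 2), (1, 3)], [], 21⟩,
  ⟨376, [(12, 2), (21, 2), (179, 2)], [(6, 3), (7, 2)], [], 1⟩,
  ⟨4, [(21, 1), (175, 1)], [], [], 1⟩,
  ⟨8, [(179, 1), (92, 2)], [], [], 1⟩,
  ⟨85, [(453, 1), (764, 1)], [], [], 1⟩,
  ⟨456, [(92, 1), (257, 1)], [], [], 1⟩,
  ⟨302, [(168, 1), (92, 2)], [], [], 1⟩,
  ⟨584, [(682, 1), (21, 2)], [], [], 1⟩,
  ⟨380, [(96, 1), (453, 2)], [], [], 1⟩,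
  ⟨5, [(22, 1), (21, 2)], [], [], 1⟩,
  ⟨620, [(373, 1), (396, 2)], [], [], 1⟩,
  ⟨148, [(150, 1), (47, 2)], [], [], 1⟩,
  ⟨198, [(411, 1), (175, 2)], [], [], 1⟩,
  ⟨491, [(215, 1), (47, 2)], [], [], 1⟩,
  ⟨559, [(405, 1), (613, 2)], [], [], 1⟩]⟩

theorem r19 : run 819 co c19.X c19.m base c19.l [] = true := by decide +kernel
theorem t19 : tb 819 fl [4, 2, 1] c19.X = true := by decide +kernel
theorem k19 : ts.map (cnc 819 co c19.X) = [0, 27, 216, 21] := by decide +kernel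

/-- class 20, elements of order 28 -/
def c20 : Cl := ⟨dg 10 1023 X20, 28, [⟨65, [], [(4, 3), (2, 2), (5, 2)], [], 28⟩,
  ⟨376, [(65, 3), (406, 3)], [(5, 2), (6, 2), (1, 3)], [], 1⟩,
  ⟨4, [(65, 2), (688, 3)], [(7, 0)], [], 1⟩,
  ⟨8, [(341, 1), (636, 2), (406, 2)], [(1, 2)], [], 1⟩,
  ⟨85, [(9, 1), (65, 2), (441, 2)], [(5, 3)], [], 1⟩,
  ⟨456, [(656, 1), (156, 2)], [], [], 1⟩,
  ⟨302, [(398, 1), (511, 2)], [], [], 1⟩,
  ⟨584, [(406, 1), (686, 2)], [], [], 1⟩,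
  ⟨380, [(33, 1), (40, 2)], [], [], 1⟩,
  ⟨198, [(11, 1), (548, 2)], [], [], 1⟩,
  ⟨235, [(134, 1), (44, 2)], [], [], 1⟩]⟩

theorem r20 : run 819 co c20.X c20.m base c20.l [] = true := by decide +kernel
theorem t20 : tb 819 fl [3, 2, 1] c20.X = true := by decide +kernel
theorem k20 : ts.map (cnc 819 co c20.X) = [1, 32, 218, 1] := by decide +kernel

end Cfsg.Agent.H347.HX.D42
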