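import Cfsg.Agent.H347.HX.D42.Sigma
import Cfsg.Agent.H347.HX.D42.CertB
import Cfsg.Agent.H347.HX.D42.CertC
import Cfsg.Agent.H347.HX.D42.CertD
import Cfsg.Agent.H347.HX.D42.CertE
import Cfsg.Agent.H78.Pw.Base

/-!
# The conjugacy classes of `³D₄(2)` (helper347)

Every element of `K = ³D₄(2)` is conjugate in `A = ³D₄(2):3` to one of 21 elements (`classes`);
`six_td4_two`: every element of `³D₄(2)` is a product of two elements of order prime to 6.
-/

set_option autoImplicit false
set_option maxRecDepth 100000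
set_option Elab.async false

namespace Cfsg.Agent.H347.HX.D42

/-- the list -/
noncomputable def lst : List (A × Cl) := [
  (ev s [], c0),
  (ev s [3], c1),
  (ev s [0], c2),
  (ev s [4, 0, 4, 0], c3),
  (ev s [2, 0], c4),
  (ev s [4, 2, 4, 3, 1], c5),
  (ev s [4, 2, 4, 3, 2], c6),
  (ev s [4, 3], c7),
  (ev s [4, 0], c8),
  (ev s [4, 3, 4, 2, 0], c9),
  (ev s [4, 3, 2, 0], c10),
  (ev s [1, 0], c11),
  (ev s [4, 2, 4, 0], c12),
  (ev s [3, 0], c13),
  (ev s [2, 0, 1, 0], c14),
  (ev s [3, 2, 0], c15),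
  (ev s [4, 3, 1, 2, 0], c16),
  (ev s [3, 1, 0], c17),
  (ev s [4, 3, 2, 1], c18),
  (ev s [4, 2, 1], c19),
  (ev s [3, 2, 1], c20)]

theorem lst_Rp : ∀ p ∈ lst, Rp p.2.X p.1 := by
  intro p hp
  simp only [lst, List.mem_cons, List.not_mem_nil, or_false] at hp
  rcases hp with rfl | rfl | rfl | rfl | rfl | rfl | rfl | rfl | rfl | rfl | rfl | rfl | rfl | rfl | rfl | rfl | rfl | rfl | rfl | rfl | rfl
  exacts [Rp.of_tb rp_s t0, Rp.of_tb rp_s t1, Rp.of_tb rp_s t2, Rp.of_tb rp_s t3, Rp.of_tb rp_s t4, Rp.of_tb rp_s t5, Rp.of_tb rp_s t6, Rp.of_tb rp_s t7, Rp.of_tb rp_s t8, Rp.of_tb rp_s t9, Rp.of_tb rp_s t10, Rp.of_tb rp_s t11, Rp.of_tb rp_s t12, Rp.of_tb rp_s t13, Rp.of_tb rp_s t14, Rp.of_tb rp_s t15, Rp.of_tb rp_s t16, Rp.of_tb rp_s t17, Rp.of_tb rp_s t18, Rp.of_tb rp_s t19, Rp.of_tb rp_s t20]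

theorem lst_mem : ∀ p ∈ lst, p.1 ∈ K := by
  intro p hp
  simp only [lst, List.mem_cons, List.not_mem_nil, or_false] at hp
  rcases hp with rfl | rfl | rfl | rfl | rfl | rfl | rfl | rfl | rfl | rfl | rfl | rfl | rfl | rfl | rfl | rfl | rfl | rfl | rfl | rfl | rfl
  all_goals exact ev_mem _

theorem lst_run : ∀ p ∈ lst, run 819 co p.2.X p.2.m base p.2.l [] = true := by
  intro p hp
  simp only [lst, List.mem_cons, List.not_mem_nil, or_false] at hp
  rcases hp with rfl | rfl | rfl | rfl | rfl | rfl | rfl | rfl | rfl | rfl | rfl | rfl | rfl | rfl | rfl | rfl | rfl | rfl | rfl | rfl | rfl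
  exacts [r0, r1, r2, r3, r4, r5, r6, r7, r8, r9, r10, r11, r12, r13, r14, r15, r16, r17, r18, r19, r20]

theorem lst_key : (lst.map fun p => ts.map (cnc 819 co p.2.X)).Nodup := by
  show [ts.map (cnc 819 co c0.X), ts.map (cnc 819 co c1.X), ts.map (cnc 819 co c2.X), ts.map (cnc 819 co c3.X), ts.map (cnc 819 co c4.X), ts.map (cnc 819 co c5.X), ts.map (cnc 819 co c6.X), ts.map (cnc 819 co c7.X), ts.map (cnc 819 co c8.X), ts.map (cnc 819 co c9.X), ts.map (cnc 819 co c10.X), ts.map (cnc 819 co c11.X), ts.map (cnc 819 co c12.X), ts.map (cnc 819 co c13.X), ts.map (cnc 819 co c14.X), ts.map (cnc 819 co c15.X), ts.map (cnc 819 co c16.X), ts.map (cnc 819 co c17.X), ts.map (cnc 819 co c18.X), ts.map (cnc 819 co c19.X), ts.map (cnc 819 co c20.X)].Nodup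
  rw [k0, k1, k2, k3, k4, k5, k6, k7, k8, k9, k10, k11, k12, k13, k14, k15, k16, k17, k18, k19, k20]
  decide

theorem lst_sum : Nat.card K ≤ (lst.map fun p => Nat.card A / bd p.2.l).sum := by
  rw [card_K, card_A]
  show 211341312 ≤ [634023936 / bd c0.l, 634023936 / bd c1.l, 634023936 / bd c2.l, 634023936 / bd c3.l, 634023936 / bd c4.l, 634023936 / bd c5.l, 634023936 / bd c6.l, 634023936 / bd c7.l, 634023936 / bd c8.l, 634023936 / bd c9.l, 634023936 / bd c10.l, 634023936 / bd c11.l, 634023936 / bd c12.l, 634023936 / bd c13.l, 634023936 / bd c14.l, 634023936 / bd c15.l, 634023936 / bd c16.l, 634023936 / bd c17.l, 634023936 / bd c18.l, 634023936 / bd c19.l, 634023936 / bd c20.l].sum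
  decide +kernel

/-- **The classes of `³D₄(2)`** up to automorphisms -/
theorem classes {g : A} (hg : g ∈ K) : ∃ p ∈ lst, IsConj p.1 g :=
  complete_sub hbase ts normal_K lst lst_Rp lst_mem lst_run lst_key lst_sum hg

/-! ### Products of two elements of order prime to 6 -/

/-- `x = α * β`, `α ^ a = β ^ b = 1` -/
def six (X : ℕ → ℕ) (α : List ℕ) (a b : ℕ) : Bool :=
  bif (alb 819 fun q => Nat.beq (it (ap fl α) a q) q) then
    (alb 819 fun q => Nat.beq (it (fun p => ap fl α.reverse (X p)) b q) q) else false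

open Cfsg.Agent.H78.Pw in
theorem of_six {X : ℕ → ℕ} {x : A} (hx : x ∈ K) (hX : Rp X x) {α : List ℕ} {a b : ℕ} (h : six X α a b = true)
    {m : ℕ} (ha : a.Coprime m) (hb : b.Coprime m) : Pr m (⟨x, hx⟩ : K) := by
  unfold six at h
  rcases h1 : (alb 819 fun q => Nat.beq (it (ap fl α) a q) q) with _ | _
  · rw [h1, cond_false] at h; cases h
  rw [h1, cond_true] at h
  have e1 : (ev s α) ^ a = 1 := pow_eq_one_of (Rp.ev rp_s α) h1
  have e2 : (ev s α.reverse * x) ^ b = 1 := by
    refine pow_eq_one_of (X := fun p => ap fl α.reverse (X p)) (fun q => ?_) h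
    show (((ev s α.reverse : A) : Equiv.Perm (Fin 819)) ((x : Equiv.Perm (Fin 819)) q) : ℕ) = _
    rw [Rp.ev rp_s α.reverse, hX q]
  refine Pr.mk (a := (⟨ev s α, ev_mem α⟩ : K)) (b := ⟨ev s α.reverse * x, mul_mem (ev_mem _) hx⟩) ?_ ?_ ?_
  · apply Subtype.ext
    show x = ev s α * (ev s α.reverse * x)
    rw [ev_reverse s_sq, mul_inv_cancel_left]
  · exact Nat.Coprime.of_dvd_left (orderOf_dvd_of_pow_eq_one (Subtype.ext e1)) ha
  · exact Nat.Coprime.of_dvd_left (orderOf_dvd_of_pow_eq_one (Subtype.ext e2)) hb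

theorem s0 : six c0.X [] 1 1 = true := by decide +kernel
theorem s1 : six c1.X [2, 1, 4, 2, 1] 7 7 = true := by decide +kernel
theorem s2 : six c2.X [2, 1] 7 7 = true := by decide +kernel
theorem s3 : six c3.X [4, 3, 2, 0] 7 7 = true := by decide +kernel
theorem s4 : six c4.X [1, 0] 7 7 = true := by decide +kernel
theorem s5 : six c5.X [2, 1, 0, 1] 7 7 = true := by decide +kernel
theorem s6 : six c6.X [0, 1] 7 7 = true := by decide +kernel
theorem s7 : six c7.X [1, 2, 0] 7 13 = true := by decide +kernel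
theorem s8 : six c8.X [1, 3, 4, 0, 2] 13 13 = true := by decide +kernel
theorem s9 : six c9.X [4, 0, 3, 2] 7 7 = true := by decide +kernel
theorem s10 : six c10.X [] 1 7 = true := by decide +kernel
theorem s11 : six c11.X [] 1 7 = true := by decide +kernel
theorem s12 : six c12.X [1, 2] 7 7 = true := by decide +kernel
theorem s13 : six c13.X [4, 2, 1, 4] 7 13 = true := by decide +kernel
theorem s14 : six c14.X [2, 1] 7 7 = true := by decide +kernel
theorem s15 : six c15.X [4, 0, 3, 2] 7 7 = true := by decide +kernel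
theorem s16 : six c16.X [] 1 13 = true := by decide +kernel
theorem s17 : six c17.X [2, 1, 2, 4, 0] 7 7 = true := by decide +kernel
theorem s18 : six c18.X [0, 1] 7 7 = true := by decide +kernel
theorem s19 : six c19.X [1, 2] 7 7 = true := by decide +kernel
theorem s20 : six c20.X [4, 3, 0, 2] 7 7 = true := by decide +kernel

theorem lst_six : ∀ p ∈ lst, ∀ h : p.1 ∈ K, Cfsg.Agent.H78.Pw.Pr 6 (⟨p.1, h⟩ : K) := by
  intro p hp
  have hR := lst_Rp p hp
  simp only [lst, List.mem_cons, List.not_mem_nil, or_false] at hp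
  rcases hp with rfl | rfl | rfl | rfl | rfl | rfl | rfl | rfl | rfl | rfl | rfl | rfl | rfl | rfl | rfl | rfl | rfl | rfl | rfl | rfl | rfl
  exacts [fun h => of_six h hR s0 (by decide) (by decide), fun h => of_six h hR s1 (by decide) (by decide), fun h => of_six h hR s2 (by decide) (by decide), fun h => of_six h hR s3 (by decide) (by decide), fun h => of_six h hR s4 (by decide) (by decide), fun h => of_six h hR s5 (by decide) (by decide), fun h => of_six h hR s6 (by decide) (by decide), fun h => of_six h hR s7 (by decide) (by decide), fun h => of_six h hR s8 (by decide) (by decide), fun h => of_six h hR s9 (by decide) (by decide), fun h => of_six h hR s10 (by decide) (by decide), fun h => of_six h hR s11 (by decide) (by decide), fun h => of_six h hR s12 (by decide) (by decide), fun h => of_six h hR s13 (by decide) (by decide), fun h => of_six h hR s14 (by decide) (by decide), fun h => of_six h hR s15 (by decide) (by decide), fun h => of_six h hR s16 (by decide)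 (by decide), fun h => of_six h hR s17 (by decide) (by decide), fun h => of_six h hR s18 (by decide) (by decide), fun h => of_six h hR s19 (by decide) (by decide), fun h => of_six h hR s20 (by decide) (by decide)]

/-- conjugation in `A` -/
theorem pr_conj {m : ℕ} {x g : A} (hx : x ∈ K) (hg : g ∈ K) (hc : IsConj x g)
    (h : Cfsg.Agent.H78.Pw.Pr m (⟨x, hx⟩ : K)) : Cfsg.Agent.H78.Pw.Pr m (⟨g, hg⟩ : K) := by
  obtain ⟨c, rfl⟩ := isConj_iff.1 hc
  obtain ⟨a, b, e, ha, hb⟩ := h
  have o : ∀ y : K, orderOf (⟨c * y * c⁻¹, normal_K.conj_mem _ y.2 c⟩ : K) = orderOf y := by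
    intro y
    exact (Subgroup.orderOf_coe _).symm.trans (((MulAut.conj c).orderOf_eq (y : A)).trans (Subgroup.orderOf_coe y))
  refine Cfsg.Agent.H78.Pw.Pr.mk (a := ⟨c * a * c⁻¹, normal_K.conj_mem _ a.2 c⟩)
    (b := ⟨c * b * c⁻¹, normal_K.conj_mem _ b.2 c⟩) ?_ (by rw [o]; exact ha) (by rw [o]; exact hb)
  apply Subtype.ext
  show c * x * c⁻¹ = (c * a * c⁻¹) * (c * b * c⁻¹)
  have e' : x = (a : A) * b := congrArg Subtype.val e
  rw [e']
  group

theorem all_six : Cfsg.Agent.H78.Pw.All 6 K := by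
  rintro ⟨g, hg⟩
  obtain ⟨p, hp, h⟩ := classes hg
  exact pr_conj (lst_mem p hp) hg h (lst_six p hp _)

/-- **Every element of `³D₄(2)` is a product of two elements of order prime to 6.** -/
theorem six_td4_two (F : Type*) [Field F] [Fintype F] (hF : Fintype.card F = 2 ^ 3) :
    Cfsg.Agent.H78.Pw.All 6 ↥(Lie.twistedD4 F 2) := by
  obtain ⟨φ⟩ := iso F hF
  exact all_six.congr φ

end Cfsg.Agent.H347.HX.D42
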