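import Cfsg.Agent.H347.HX.D42.Data
import Cfsg.Agent.H347.HX.Sub

/-!
# `³D₄(2)`: the base (helper347)
-/

set_option autoImplicit false
set_option maxRecDepth 100000
set_option Elab.async false

namespace Cfsg.Agent.H347.HX.D42

/-- the base -/
def base : List ℕ := [376, 4, 8, 85, 456, 302, 584, 380, 5, 620, 148, 198, 491, 559, 235]

/-- the points sorted by their signatures -/
def ST : ℕ := 0xaec3669cb54b3463296f0974e939983f3d7292fcdfbb5b7670070a31d9c61610d301c60190e54925bf934fd615440697ca6de11b7205a9df9eec940efa1800a2e86ccbea79f526966993cefe8349f0721225e3c06642726bf092e3a35ff3bd8d846fc4c5f77c6d8ba1452a5ecb0977815f32fa7e2b4a88b008050004fa7fa7de016adb431bb801f40e0a36b2a3189e37b904088d444a60b485c45d62be42ea24395616733a729d5c05d4b99e0722513c32e854e852c72b829c513557b56df5a186b0541646e82a609aa02099bd69986848f6c6a28c19ea041f515434d217e473a1b2196bec5c4ab5da62e127ba92d939a1bda1f4f5cb521f0829ae55160c92391a72b5ad34a6aa02dcdc6ae4f531235f5eaae69cacccc22c7a06cabb01fb65b2204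0097201f796da6d81d652d4641a54a0b1c6ddd8de1975721b96a9739e84bb0816ed9c4f23a0433979c638921c070e6203c4228f3f08801968619cf7d8e7bfd0f045877662a38d41286bd6bd420c5d6c129755aaab78051525da2c9c0ca56bc8edb0d971f9353fe3a53e27876ac98aae3e6eba9a2b4cca64bc17b44b097e467bd189148d3a43556ad5cc9bd02e359910e1c2b5100907acbb39a14382ca8f91a576923e1a26f9d4030c83dc9eb9ece31cdbba51330c8c1cc213d23f0a4495b902174bcc4ab290222289c2418c5aee6313d2b1667320cf671cf01fe8e33ecf9d002bd5052d572206365948a445788b8cd75d491e6f0c94271be58931072550167c260f46e7488031244872ddab5322b1c1af2a819e209b73108dfe296c76e17651eec95c93a7a1514d8147a5c3c53f0bdf8366e468287ac17a9da289f31e63cf22ceaf2c916c5277a30d7c549b4a60ea84371a91f49595b15576b718b7ed3c6b06bc6fdc404283c454e72e545b1465d0b109858d803004464a70081093b9dc7884c64d8a85c614e0ea1daa4378fb07b0a70d0a6d4dd0edb376e2dc7e411983a862b704da82a87888ef72098494cca442c848a6a7985e8ce267447b77b27c582c15971b80ecb725258624b88d3b4085a45cc66e0c7a46869e08675fd13999a5b2abbc4d5e7079e404c664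b5f96dc2c8f5b225b985882f0f239ca4ed366e950929a9340505fc1855711aeb0c5498ba9582711e7470e48194e592676d230cb19a42cd60c21e5bded18f28cc173b5a037e6e1121a3aad5fb342b0a8e5c0d593f9896311d8d0d8c98b4309b02126ebce951555360da4922902d85727441a2213a0daa4b26596836841cd11eb61d4874521b6e48976a2936a0267a9d3e8c98854d2f54a0066ca51bc50f0511af48c500502cb0f82dac40e258c69a2a257ab42807cc0099292fb1d25103598bba1a7c8770d1667e9d85195c00e3b48255be1e419174b044b4dd8e384128bdc52189209607942382be6b7f12a6440f24524b3170c08eb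

theorem srt_base : srt 819 co base (dg 10 1023 ST) = true := by decide +kernel

/-- the class functions -/
def ts : List Ct := [⟨[(1, 0)], [], []⟩, ⟨[(1, 1)], [], []⟩, ⟨[(1, 2)], [], []⟩, ⟨[(3, 0)], [], []⟩]

/-- chunk of the check for letters -/
abbrev pc (j k : ℕ) : Bool := prC 103 819 co (fl j) k

end Cfsg.Agent.H347.HX.D42
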