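import Cfsg.Agent.H347.HX.D42.Base

/-!
# `³D₄(2)`: certificates for the orders of the centralizers (helper347)
-/

set_option autoImplicit false
set_option maxRecDepth 100000
set_option Elab.async false

namespace Cfsg.Agent.H347.HX.D42

/-- class 0, elements of order 1 -/
def c0 : Cl := ⟨dg 10 1023 X0, 1, [⟨43, [], [], [], 819⟩,
  ⟨255, [(43, 1)], [], [], 18⟩,
  ⟨591, [(43, 2), (255, 2)], [], [], 16⟩,
  ⟨264, [(591, 2), (43, 3), (255, 3)], [], [], 16⟩,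
  ⟨158, [(264, 1), (43, 2), (255, 3)], [], [], 8⟩,
  ⟨204, [(43, 1), (264, 2), (255, 2), (158, 3)], [], [], 7⟩,
  ⟨117, [(204, 1), (591, 2), (158, 3), (264, 3)], [], [], 3⟩,
  ⟨8, [(204, 1), (117, 1)], [], [], 1⟩,
  ⟨6, [(43, 1), (158, 2)], [], [], 1⟩,
  ⟨14, [(6, 1), (591, 2), (264, 3), (43, 2)], [], [], 1⟩,
  ⟨16, [(8, 1), (255, 3), (264, 2), (6, 3), (14, 3)], [], [], 1⟩,
  ⟨26, [(264, 1), (591, 2)], [], [], 1⟩,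
  ⟨30, [(255, 1), (264, 2), (8, 2), (16, 2)], [], [], 1⟩,
  ⟨31, [(117, 1), (255, 2), (158, 3), (264, 3)], [], [], 1⟩,
  ⟨45, [(8, 1), (255, 2), (591, 3), (43, 3)], [], [], 1⟩,
  ⟨46, [(158, 1), (255, 3), (30, 3)], [], [], 1⟩,
  ⟨51, [(43, 2), (204, 2), (591, 2), (16, 2), (31, 2)], [], [], 1⟩,
  ⟨52, [(26, 1), (6, 2)], [], [], 1⟩,
  ⟨53, [(43, 2), (264, 2), (158, 2), (16, 2), (8, 2)], [], [], 1⟩,
  ⟨56, [(43, 2), (16, 2), (8, 2), (51, 3)], [], [], 1⟩,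
  ⟨57, [(255, 2), (16, 2), (46, 2), (264, 3), (45, 3)], [], [], 1⟩,
  ⟨59, [(31, 1), (51, 2)], [], [], 1⟩,
  ⟨60, [(255, 2), (30, 2), (591, 2), (31, 2), (264, 2)], [], [], 1⟩,
  ⟨61, [(204, 1), (591, 3), (158, 2), (53, 3), (264, 3)], [], [], 1⟩,
  ⟨62, [(31, 1), (46, 2)], [], [], 1⟩,
  ⟨63, [(255, 2), (264, 2), (117, 2), (52, 3), (45, 2), (51, 3)], [], [], 1⟩,
  ⟨64, [(264, 2), (8, 2), (53, 3), (63, 2), (46, 2), (31, 3)], [], [], 1⟩,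
  ⟨65, [(255, 2), (264, 2), (14, 2), (59, 2), (64, 2), (158, 3)], [], [], 1⟩,
  ⟨66, [(43, 2), (16, 2), (51, 3), (60, 2), (53, 3), (158, 3)], [], [], 1⟩,
  ⟨67, [(43, 2), (46, 2), (158, 2), (66, 2)], [], [], 1⟩,
  ⟨70, [(43, 2), (31, 2), (65, 2), (591, 3), (14, 3), (30, 2)], [], [], 1⟩,
  ⟨71, [(8, 1), (64, 2)], [], [], 1⟩,
  ⟨72, [(43, 2), (31, 2), (117, 2), (51, 3)], [], [], 1⟩,
  ⟨75, [(158, 2), (204, 2), (14, 2), (60, 2)], [], [], 1⟩,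
  ⟨78, [(8, 1), (67, 2)], [], [], 1⟩,
  ⟨79, [(43, 2), (264, 2), (57, 2), (53, 3), (16, 3)], [], [], 1⟩,
  ⟨80, [(43, 2), (255, 2), (78, 2)], [], [], 1⟩,
  ⟨83, [(45, 1), (65, 2)], [], [], 1⟩,
  ⟨85, [(46, 1), (72, 2)], [], [], 1⟩,
  ⟨86, [(83, 1), (255, 2), (51, 2), (6, 3)], [], [], 1⟩,
  ⟨92, [(14, 1), (80, 1)], [], [], 1⟩,
  ⟨99, [(43, 2), (16, 2), (64, 2), (51, 3), (56, 3)], [], [], 1⟩,
  ⟨106, [(43, 2), (264, 2), (86, 2), (56, 2), (591, 2)], [], [], 1⟩,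
  ⟨107, [(43, 2), (16, 2), (64, 2), (30, 3), (591, 3)], [], [], 1⟩,
  ⟨134, [(80, 1), (107, 2)], [], [], 1⟩,
  ⟨148, [(14, 1), (45, 1)], [], [], 1⟩,
  ⟨175, [(99, 1), (61, 2)], [], [], 1⟩,
  ⟨198, [(53, 1), (255, 2), (175, 2)], [], [], 1⟩,
  ⟨235, [(134, 1), (71, 2)], [], [], 1⟩,
  ⟨302, [(61, 1), (79, 2)], [], [], 1⟩,
  ⟨376, [(30, 1), (70, 1)], [], [], 1⟩,
  ⟨380, [(70, 1), (75, 2)], [], [], 1⟩,
  ⟨456, [(92, 1), (53, 2)], [], [], 1⟩,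
  ⟨491, [(64, 1), (264, 2)], [], [], 1⟩,
  ⟨559, [(106, 1), (43, 2)], [], [], 1⟩,
  ⟨584, [(56, 1), (158, 2)], [], [], 1⟩,
  ⟨620, [(60, 1), (51, 2)], [], [], 1⟩,
  ⟨4, [(61, 1), (64, 1)], [], [], 1⟩,
  ⟨5, [(62, 1), (61, 2)], [], [], 1⟩]⟩

theorem r0 : run 819 co c0.X c0.m base c0.l [] = true := by decide +kernel
theorem t0 : tb 819 fl [] c0.X = true := by decide +kernel
theorem k0 : ts.map (cnc 819 co c0.X) = [819, 0, 0, 819] := by decide +kernel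

/-- class 1, elements of order 2 -/
def c1 : Cl := ⟨dg 10 1023 X1, 2, [⟨117, [], [(1, 1)], [], 288⟩,
  ⟨96, [(117, 3)], [(1, 0)], [], 16⟩,
  ⟨61, [(204, 1), (96, 2), (117, 2)], [], [], 8⟩,
  ⟨5, [(61, 2), (117, 3), (96, 2)], [(1, 0)], [], 7⟩,
  ⟨43, [(204, 1), (96, 2), (5, 2), (117, 2), (61, 2)], [], [], 3⟩,
  ⟨8, [(117, 1), (204, 1)], [], [], 1⟩,
  ⟨10, [(5, 1), (96, 2)], [], [], 1⟩,
  ⟨22, [(5, 1), (43, 1)], [], [], 1⟩,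
  ⟨49, [(96, 1), (5, 2)], [], [], 1⟩,
  ⟨62, [(31, 1), (5, 1)], [], [], 1⟩,
  ⟨74, [(10, 1), (117, 2), (90, 2)], [], [], 1⟩,
  ⟨89, [(22, 1), (117, 2), (49, 2), (61, 2)], [], [], 1⟩,
  ⟨95, [(204, 2), (61, 2), (96, 3), (90, 2), (89, 3)], [], [], 1⟩,
  ⟨97, [(31, 2), (10, 2), (89, 2), (96, 3), (204, 3), (61, 3), (43, 3), (95, 3)], [], [], 1⟩,
  ⟨98, [(61, 2), (31, 2), (96, 3), (90, 2), (175, 3), (166, 2)], [], [], 1⟩,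
  ⟨99, [(175, 1), (61, 2)], [], [], 1⟩,
  ⟨100, [(5, 1), (98, 2)], [], [], 1⟩,
  ⟨102, [(96, 2), (124, 2), (97, 2), (51, 2), (204, 3), (5, 2)], [], [], 1⟩,
  ⟨104, [(31, 2), (43, 2), (10, 2), (96, 3), (74, 3)], [], [], 1⟩,
  ⟨106, [(5, 2), (95, 2), (104, 2), (61, 3), (204, 3)], [], [], 1⟩,
  ⟨107, [(188, 1), (61, 2)], [], [], 1⟩,
  ⟨109, [(117, 2), (90, 2), (96, 2), (166, 2), (61, 2), (62, 3)], [], [], 1⟩,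
  ⟨112, [(204, 1), (57, 2)], [], [], 1⟩,
  ⟨115, [(74, 1), (89, 2)], [], [], 1⟩,
  ⟨118, [(117, 2), (95, 2), (72, 2), (98, 2), (102, 3)], [], [], 1⟩,
  ⟨123, [(117, 2), (22, 2), (43, 2), (210, 2)], [], [], 1⟩,
  ⟨142, [(203, 1), (176, 2)], [], [], 1⟩,
  ⟨146, [(97, 1), (114, 2)], [], [], 1⟩,
  ⟨148, [(114, 1), (97, 2)], [], [], 1⟩,
  ⟨155, [(117, 1), (89, 1)], [], [], 1⟩,
  ⟨157, [(96, 2), (124, 2), (75, 2), (61, 2), (31, 3)], [], [], 1⟩,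
  ⟨164, [(22, 1), (188, 2)], [], [], 1⟩,
  ⟨198, [(117, 2), (203, 2), (295, 2)], [], [], 1⟩,
  ⟨302, [(61, 1), (178, 2)], [], [], 1⟩,
  ⟨376, [(104, 1), (123, 2)], [], [], 1⟩,
  ⟨380, [(96, 1), (155, 2)], [], [], 1⟩,
  ⟨456, [(205, 1), (147, 2)], [], [], 1⟩,
  ⟨491, [(100, 1), (112, 1)], [], [], 1⟩,
  ⟨511, [(102, 1), (90, 2)], [], [], 1⟩,
  ⟨559, [(106, 1), (43, 2)], [], [], 1⟩,
  ⟨584, [(57, 1), (115, 1)], [], [], 1⟩,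
  ⟨4, [(61, 1), (175, 1)], [], [], 1⟩,
  ⟨85, [(287, 1), (74, 2)], [], [], 1⟩]⟩

theorem r1 : run 819 co c1.X c1.m base c1.l [] = true := by decide +kernel
theorem t1 : tb 819 fl [3] c1.X = true := by decide +kernel
theorem k1 : ts.map (cnc 819 co c1.X) = [19, 288, 0, 19] := by decide +kernel

end Cfsg.Agent.H347.HX.D42
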