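import Cfsg.Agent.H347.HX.D42.Base

/-!
# `³D₄(2)`: letter 0 preserves the colours (helper347)
-/

set_option autoImplicit false
set_option maxRecDepth 100000
set_option Elab.async false

namespace Cfsg.Agent.H347.HX.D42

theorem p0_0 : pc 0 0 = true := by decide +kernel
theorem p0_1 : pc 0 1 = true := by decide +kernel
theorem p0_2 : pc 0 2 = true := by decide +kernel
theorem p0_3 : pc 0 3 = true := by decide +kernel
theorem p0_4 : pc 0 4 = true := by decide +kernel
theorem p0_5 : pc 0 5 = true := by decide +kernel
theorem p0_6 : pc 0 6 = true := by decide +kernel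
theorem p0_7 : pc 0 7 = true := by decide +kernel

theorem pc0 : ∀ k < 8, pc 0 k = true := by
  intro k hk
  interval_cases k
  exacts [p0_0, p0_1, p0_2, p0_3, p0_4, p0_5, p0_6, p0_7]

end Cfsg.Agent.H347.HX.D42
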