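import Cfsg.Agent.H347.HX.D42.Base

/-!
# `³D₄(2)`: letter 1 preserves the colours (helper347)
-/

set_option autoImplicit false
set_option maxRecDepth 100000
set_option Elab.async false

namespace Cfsg.Agent.H347.HX.D42

theorem p1_0 : pc 1 0 = true := by decide +kernel
theorem p1_1 : pc 1 1 = true := by decide +kernel
theorem p1_2 : pc 1 2 = true := by decide +kernel
theorem p1_3 : pc 1 3 = true := by decide +kernel
theorem p1_4 : pc 1 4 = true := by decide +kernel
theorem p1_5 : pc 1 5 = true := by decide +kernel
theorem p1_6 : pc 1 6 = true := by decide +kernel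
theorem p1_7 : pc 1 7 = true := by decide +kernel

theorem pc1 : ∀ k < 8, pc 1 k = true := by
  intro k hk
  interval_cases k
  exacts [p1_0, p1_1, p1_2, p1_3, p1_4, p1_5, p1_6, p1_7]

end Cfsg.Agent.H347.HX.D42
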