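import Cfsg.Agent.H347.HX.D42.Base

/-!
# `³D₄(2)`: letter 2 preserves the colours (helper347)
-/

set_option autoImplicit false
set_option maxRecDepth 100000
set_option Elab.async false

namespace Cfsg.Agent.H347.HX.D42

theorem p2_0 : pc 2 0 = true := by decide +kernel
theorem p2_1 : pc 2 1 = true := by decide +kernel
theorem p2_2 : pc 2 2 = true := by decide +kernel
theorem p2_3 : pc 2 3 = true := by decide +kernel
theorem p2_4 : pc 2 4 = true := by decide +kernel
theorem p2_5 : pc 2 5 = true := by decide +kernel
theorem p2_6 : pc 2 6 = true := by decide +kernel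
theorem p2_7 : pc 2 7 = true := by decide +kernel

theorem pc2 : ∀ k < 8, pc 2 k = true := by
  intro k hk
  interval_cases k
  exacts [p2_0, p2_1, p2_2, p2_3, p2_4, p2_5, p2_6, p2_7]

end Cfsg.Agent.H347.HX.D42
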