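import Cfsg.Agent.H347.HX.D42.Base

/-!
# `³D₄(2)`: letter 3 preserves the colours (helper347)
-/

set_option autoImplicit false
set_option maxRecDepth 100000
set_option Elab.async false

namespace Cfsg.Agent.H347.HX.D42

theorem p3_0 : pc 3 0 = true := by decide +kernel
theorem p3_1 : pc 3 1 = true := by decide +kernel
theorem p3_2 : pc 3 2 = true := by decide +kernel
theorem p3_3 : pc 3 3 = true := by decide +kernel
theorem p3_4 : pc 3 4 = true := by decide +kernel
theorem p3_5 : pc 3 5 = true := by decide +kernel
theorem p3_6 : pc 3 6 = true := by decide +kernel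
theorem p3_7 : pc 3 7 = true := by decide +kernel

theorem pc3 : ∀ k < 8, pc 3 k = true := by
  intro k hk
  interval_cases k
  exacts [p3_0, p3_1, p3_2, p3_3, p3_4, p3_5, p3_6, p3_7]

end Cfsg.Agent.H347.HX.D42
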