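import Cfsg.Agent.H347.HX.D42.Base

/-!
# `³D₄(2)`: letter 4 preserves the colours (helper347)
-/

set_option autoImplicit false
set_option maxRecDepth 100000
set_option Elab.async false

namespace Cfsg.Agent.H347.HX.D42

theorem p4_0 : pc 4 0 = true := by decide +kernel
theorem p4_1 : pc 4 1 = true := by decide +kernel
theorem p4_2 : pc 4 2 = true := by decide +kernel
theorem p4_3 : pc 4 3 = true := by decide +kernel
theorem p4_4 : pc 4 4 = true := by decide +kernel
theorem p4_5 : pc 4 5 = true := by decide +kernel
theorem p4_6 : pc 4 6 = true := by decide +kernel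
theorem p4_7 : pc 4 7 = true := by decide +kernel

theorem pc4 : ∀ k < 8, pc 4 k = true := by
  intro k hk
  interval_cases k
  exacts [p4_0, p4_1, p4_2, p4_3, p4_4, p4_5, p4_6, p4_7]

end Cfsg.Agent.H347.HX.D42
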