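import Cfsg.Agent.H347.HX.D42.CertA
import Cfsg.Agent.H347.HX.D42.Pres0
import Cfsg.Agent.H347.HX.D42.Pres1
import Cfsg.Agent.H347.HX.D42.Pres2
import Cfsg.Agent.H347.HX.D42.Pres3
import Cfsg.Agent.H347.HX.D42.Pres4
import Cfsg.Agent.TypeD4Two.Bridge

/-!
# `³D₄(2)` on 819 points (helper347)

`A = Aut 819 co` is `³D₄(2):3` (`card_le_A`), `K` is `³D₄(2)` (`iso`, `card_K`), normal in `A`.
-/

set_option autoImplicit false
set_option maxRecDepth 100000
set_option Elab.async false

namespace Cfsg.Agent.H347.HX.D42

open Cfsg.Agent.TrialityTwo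

/-- `³D₄(2):3` -/
abbrev A : Subgroup (Equiv.Perm (Fin 819)) := Aut 819 co

theorem in0 : inb 819 (fl 0) = true := by decide +kernel
theorem in1 : inb 819 (fl 1) = true := by decide +kernel
theorem in2 : inb 819 (fl 2) = true := by decide +kernel
theorem in3 : inb 819 (fl 3) = true := by decide +kernel
theorem in4 : inb 819 (fl 4) = true := by decide +kernel

theorem in_all : ∀ j, inb 819 (fl j) = true
  | 0 => in0
  | 1 => in1
  | 2 => in2
  | 3 => in3
  | _ + 4 => in4

theorem pr_all : ∀ j, ∀ k < 8, prC 103 819 co (fl j) k = true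
  | 0 => pc0
  | 1 => pc1
  | 2 => pc2
  | 3 => pc3
  | _ + 4 => pc4

/-- the letters -/
def s (j : ℕ) : A := ⟨ofTb (fl j) (in_all j), mem_of_prC (fun _ => rfl) (by norm_num) (by norm_num) (pr_all j)⟩

theorem rp_s (j : ℕ) : Rp (fl j) (s j) := fun _ => rfl

theorem s_sq (j : ℕ) : s j * s j = 1 := by
  apply Subtype.ext
  apply Equiv.ext
  intro q
  exact Fin.ext (of_inb (in_all j) q q.2).2

/-- equality of words -/
def chk (u v : List ℕ) : Bool := alb 819 fun p => Nat.beq (ap fl u p) (ap fl v p)

theorem key {u v : List ℕ} (h : chk u v = true) : ev s u = ev s v := by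
  apply Subtype.ext
  apply Equiv.ext
  intro q
  apply Fin.ext
  rw [Rp.ev rp_s u q, Rp.ev rp_s v q]
  exact Nat.eq_of_beq_eq_true (of_alb h q q.2)

theorem key1 {u : List ℕ} (h : chk u [] = true) : ev s u = 1 := key h

theorem mulw (u v : List ℕ) : ev s u * ev s v = ev s (u ++ v) := (ev_append s u v).symm

theorem revw (u : List ℕ) : (ev s u)⁻¹ = ev s u.reverse := (ev_reverse s_sq u).symm

/-- repeated word -/
def wp (l : List ℕ) : ℕ → List ℕ
  | 0 => []
  | n + 1 => l ++ wp l n

theorem poww (u : List ℕ) (k : ℕ) : (ev s u) ^ k = ev s (wp u k) := by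
  induction k with
  | zero => rfl
  | succ n ih => rw [wp, ev_append, ← ih, pow_succ']

/-- generators -/
abbrev gd : A := ev s [0, 1]
@[inherit_doc gd] abbrev ge : A := ev s [2]
@[inherit_doc gd] abbrev gn : A := ev s [0]
@[inherit_doc gd] abbrev ga : A := ev s [3]
@[inherit_doc gd] abbrev gt : A := ev s [4]

theorem relL : RelL gd ge gn where
  d7 := by rw [poww]; exact key1 (by decide +kernel)
  e2 := by rw [mulw]; exact key1 (by decide +kernel)
  n2 := by rw [mulw]; exact key1 (by decide +kernel)
  e013 := by simp only [poww, revw, mulw]; exact key1 (by decide +kernel)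
  ecomm := by simp only [poww, revw, mulw]; exact key (by decide +kernel)
  nd := by simp only [poww, revw, mulw]; exact key1 (by decide +kernel)
  ne := by simp only [poww, revw, mulw]; exact key1 (by decide +kernel)

theorem relC : RelC gd ge gn ga where
  toRelL := relL
  a2 := by rw [mulw]; exact key1 (by decide +kernel)
  ad := by simp only [mulw]; exact key (by decide +kernel)
  ae := by simp only [mulw]; exact key (by decide +kernel)
  z2 := by simp only [zc, bb, poww, revw, mulw]; exact key1 (by decide +kernel)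
  ze := by simp only [zc, bb, poww, revw, mulw]; exact key (by decide +kernel)
  prod := by simp only [zc, bb, cc, poww, revw, mulw]; exact key (by decide +kernel)

theorem rel : Rel gd ge gn ga gt where
  toRelC := relC
  t2 := by rw [mulw]; exact key1 (by decide +kernel)
  td := by simp only [mulw]; exact key (by decide +kernel)
  tz := by simp only [zc, bb, poww, revw, mulw]; exact key (by decide +kernel)
  bt := by simp only [zc, bb, poww, revw, mulw]; exact key1 (by decide +kernel)
  te := by simp only [zc, bb, cc, poww, revw, mulw]; exact key (by decide +kernel)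
  tc := by simp only [zc, bb, cc, poww, revw, mulw]; exact key (by decide +kernel)
  tn := by simp only [zc, bb, cc, poww, revw, mulw]; exact key1 (by decide +kernel)

theorem ne_of {u v : List ℕ} (p : Fin 819) (h : Nat.beq (ap fl u p) (ap fl v p) = false) : ev s u ≠ ev s v := by
  intro e
  have h1 := Rp.ev rp_s u p
  rw [e, Rp.ev rp_s v p] at h1
  rw [← h1, Nat.beq_refl] at h
  cases h

theorem a_ne : ga ≠ 1 := ne_of (v := []) 2 (by decide +kernel)

theorem hbase (c : A) (hc : ∀ f ∈ base, Fx c f) : c = 1 := base_of_srt srt_base c hc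

theorem run_all : run 819 co (fun y => y) 1 base c0.l [] = true := by decide +kernel

theorem card_le_A : Nat.card A ≤ 634023936 := (card_le_all hbase run_all).trans (by decide +kernel)

/-- `³D₄(2)` -/
abbrev K : Subgroup A := Subgroup.closure {gd, ge, gn, ga, gt}

/-- `K` is `³D₄(2)` -/
theorem iso (F : Type*) [Field F] [Fintype F] (hF : Fintype.card F = 8) : Nonempty (K ≃* Lie.twistedD4 F 2) :=
  Cfsg.Agent.TypeD4Two.Bridge.recognize rel a_ne F hF

theorem card_K : Nat.card K = 211341312 := by
  obtain ⟨φ⟩ := iso Cfsg.Agent.TypeD4Two.F8 Cfsg.Agent.TypeD4Two.F8.card_F8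
  rw [Nat.card_congr φ.toEquiv, Cfsg.Agent.TypeD4Two.Recog.card_twD4]

theorem simple_K : IsSimpleGroup K := by
  obtain ⟨φ⟩ := iso Cfsg.Agent.TypeD4Two.F8 Cfsg.Agent.TypeD4Two.F8.card_F8
  have h := (Cfsg.Agent.S1071.result Nat.prime_two.isPrimePow
    (K := Cfsg.Agent.TypeD4Two.F8) Cfsg.Agent.TypeD4Two.Recog.card_F8').1
  have := φ.toEquiv.nontrivial
  exact IsSimpleGroup.isSimpleGroup_of_surjective φ.symm.toMonoidHom φ.symm.surjective

theorem index_le : K.index ≤ 3 := by
  have h1 := K.card_mul_index
  have h2 := card_le_A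
  rw [← h1, card_K] at h2
  omega

theorem normal_K : K.Normal := by
  have := simple_K
  refine normal_of_index K (lt_of_le_of_lt (Nat.factorial_le index_le) ?_)
  rw [card_K]
  decide

theorem s_mem : ∀ j, s j ∈ K
  | 0 => Subgroup.subset_closure (by
      have e : s 0 = gn := by rw [gn, ev_cons, ev_nil, mul_one]
      rw [e]; simp)
  | 1 => by
      have h0 : gn ∈ K := Subgroup.subset_closure (by simp)
      have hd : gd ∈ K := Subgroup.subset_closure (by simp)
      have e : s 1 = gn * gd := by
        rw [gn, gd, ev_cons, ev_nil, mul_one, ev_cons, ev_cons, ev_nil, mul_one, ← mul_assoc, s_sq, one_mul]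
      rw [e]
      exact mul_mem h0 hd
  | 2 => Subgroup.subset_closure (by
      have e : s 2 = ge := by rw [ge, ev_cons, ev_nil, mul_one]
      rw [e]; simp)
  | 3 => Subgroup.subset_closure (by
      have e : s 3 = ga := by rw [ga, ev_cons, ev_nil, mul_one]
      rw [e]; simp)
  | _ + 4 => Subgroup.subset_closure (by
      have e : s 4 = gt := by rw [gt, ev_cons, ev_nil, mul_one]
      show s 4 ∈ _
      rw [e]; simp)

theorem ev_mem (w : List ℕ) : ev s w ∈ K := by
  induction w with
  | nil => exact one_mem _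
  | cons l w ih => rw [ev_cons]; exact mul_mem (s_mem l) ih

end Cfsg.Agent.H347.HX.D42
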