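import Cfsg.Agent.H347.HX.D42.Group
import Cfsg.Agent.H347.HX.D42.PresS
import Cfsg.Agent.H379.TD.Gen

/-!
# The outer automorphism of order three of `³D₄(2)` on 819 points (helper347)

`σ` commutes with `e, n, a, t` and maps `d` to `d²`; the trace of `d` in the natural representation is not in the prime
field, hence `σ ∉ K` and `|A| = 3 |K|`.
-/

set_option autoImplicit false
set_option maxRecDepth 100000
set_option Elab.async false

namespace Cfsg.Agent.H347.HX.D42

theorem s_lt (p : ℕ) (hp : p < 819) : sf p < 819 ∧ si p < 819 ∧ si (sf p) = p ∧ sf (si p) = p := by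
  have h : (alb 819 fun p => bif Nat.blt (sf p) 819 then (bif Nat.blt (si p) 819 then
    (bif Nat.beq (si (sf p)) p then Nat.beq (sf (si p)) p else false) else false) else false) = true := by
    decide +kernel
  have h1 := of_alb h p hp
  rcases h2 : Nat.blt (sf p) 819 with _ | _
  · rw [h2, cond_false] at h1; cases h1
  rcases h3 : Nat.blt (si p) 819 with _ | _
  · rw [h2, cond_true, h3, cond_false] at h1; cases h1
  rcases h4 : Nat.beq (si (sf p)) p with _ | _
  · rw [h2, cond_true, h3, cond_true, h4, cond_false] at h1; cases h1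
  rw [h2, cond_true, h3, cond_true, h4, cond_true] at h1
  rw [Nat.blt_eq] at h2 h3
  exact ⟨h2, h3, Nat.eq_of_beq_eq_true h4, Nat.eq_of_beq_eq_true h1⟩

/-- the permutation -/
def σp : Equiv.Perm (Fin 819) where
  toFun p := ⟨sf p, (s_lt p p.2).1⟩
  invFun p := ⟨si p, (s_lt p p.2).2.1⟩
  left_inv p := Fin.ext (s_lt p p.2).2.2.1
  right_inv p := Fin.ext (s_lt p p.2).2.2.2

/-- the automorphism -/
def σ : A := ⟨σp, mem_of_prC (fun _ => rfl) (by norm_num) (by norm_num) qc⟩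

theorem rp_σ : Rp sf σ := fun _ => rfl

theorem σ_cube : σ ^ 3 = 1 := pow_eq_one_of rp_σ (by decide +kernel)

theorem σ_d : σ * gd = gd * gd * σ := by
  apply Subtype.ext
  apply Equiv.ext
  intro q
  apply Fin.ext
  have h : (alb 819 fun p => Nat.beq (sf (ap fl [0, 1] p)) (ap fl [0, 1, 0, 1] (sf p))) = true := by decide +kernel
  have h1 : (((σ * gd : A) : Equiv.Perm (Fin 819)) q : ℕ) = sf (ap fl [0, 1] q) := by
    show (((σ : Equiv.Perm (Fin 819)) ((gd : Equiv.Perm (Fin 819)) q) : Fin 819) : ℕ) = _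
    rw [rp_σ, Rp.ev rp_s]
  have h2 : (((gd * gd * σ : A) : Equiv.Perm (Fin 819)) q : ℕ) = ap fl [0, 1, 0, 1] (sf q) := by
    rw [mulw]
    show ((((ev s ([0, 1] ++ [0, 1]) : A) : Equiv.Perm (Fin 819)) ((σ : Equiv.Perm (Fin 819)) q) : Fin 819) : ℕ) = _
    rw [Rp.ev rp_s, rp_σ]
    rfl
  rw [h1, h2]
  exact Nat.eq_of_beq_eq_true (of_alb h q q.2)

open Cfsg.Agent.TypeD4Two in
/-- the isomorphism with the matrix group -/
theorem iso_mat : ∃ φ : Subgroup.closure (Set.range (Recog.five gd ge gn ga gt)) ≃*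
      Subgroup.closure (Set.range (Recog.five H379.TD.gd H379.TD.ge H379.TD.gn H379.TD.ga H379.TD.gt)),
    ∀ i, φ ⟨Recog.five gd ge gn ga gt i, Subgroup.subset_closure ⟨i, rfl⟩⟩ =
      ⟨Recog.five H379.TD.gd H379.TD.ge H379.TD.gn H379.TD.ga H379.TD.gt i, Subgroup.subset_closure ⟨i, rfl⟩⟩ := by
  have hR : Subgroup.closure (Set.range (Recog.five H379.TD.gd H379.TD.ge H379.TD.gn H379.TD.ga H379.TD.gt)) =
      H379.TD.M := by
    rw [Recog.range_five]; rfl
  have hs : IsSimpleGroup (Subgroup.closure (Set.range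
      (Recog.five H379.TD.gd H379.TD.ge H379.TD.gn H379.TD.ga H379.TD.gt))) := by
    rw [hR]
    obtain ⟨φ⟩ := H379.TD.iso_M F8 F8.card_F8
    have h := (Cfsg.Agent.S1071.result Nat.prime_two.isPrimePow (K := F8) Recog.card_F8').1
    have := φ.toEquiv.nontrivial
    exact IsSimpleGroup.isSimpleGroup_of_surjective φ.symm.toMonoidHom φ.symm.surjective
  have hP := Cert.card_closure_le (Recog.relT_prod (Bridge.relT rel.toRelT) (Bridge.relT H379.TD.rel.toRelT))
    (Prod.ext rel.tn H379.TD.rel.tn)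
  rw [← Recog.range_five, ← Recog.five_pair] at hP
  refine Pair.iso_of_pairs _ _ hs hP.1 ?_ ⟨3, a_ne⟩
  rw [hR, H379.TD.card_M]
  exact hP.2

open Cfsg.Agent.TypeD4Two in
theorem trace_ne : LinearMap.trace F8 H379.TD.V ((H379.TD.gd : H379.TD.GLV) : Module.End F8 H379.TD.V) ≠
    LinearMap.trace F8 H379.TD.V ((H379.TD.gd * H379.TD.gd : H379.TD.GLV) : Module.End F8 H379.TD.V) := by
  rw [← H379.TD.wu_append, H379.TD.val_wu, H379.TD.val_wu]
  have e : ∀ c : ℕ, LinearMap.trace F8 H379.TD.V (H379.TD.lin c) = Matrix.trace (H379.TD.dec c) := fun c =>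
    Matrix.trace_toLin'_eq _
  rw [e, e]
  decide +kernel

theorem σ_not_mem : σ ∉ K := by
  intro hσ
  obtain ⟨φ, hφ⟩ := iso_mat
  have hK : Subgroup.closure (Set.range (Cfsg.Agent.TypeD4Two.Recog.five gd ge gn ga gt)) = K := by
    rw [Cfsg.Agent.TypeD4Two.Recog.range_five]
  rw [← hK] at hσ
  have h0 := hφ 0
  have h1 : (⟨σ, hσ⟩ : Subgroup.closure (Set.range (Cfsg.Agent.TypeD4Two.Recog.five gd ge gn ga gt))) *
      ⟨Cfsg.Agent.TypeD4Two.Recog.five gd ge gn ga gt 0, Subgroup.subset_closure ⟨0, rfl⟩⟩ =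
      ⟨Cfsg.Agent.TypeD4Two.Recog.five gd ge gn ga gt 0, Subgroup.subset_closure ⟨0, rfl⟩⟩ *
      ⟨Cfsg.Agent.TypeD4Two.Recog.five gd ge gn ga gt 0, Subgroup.subset_closure ⟨0, rfl⟩⟩ * ⟨σ, hσ⟩ :=
    Subtype.ext σ_d
  have h2 := congrArg φ h1
  rw [map_mul, map_mul, map_mul, h0] at h2
  have h3 := congrArg Subtype.val h2
  obtain ⟨ρ, hρ⟩ : ∃ ρ : H379.TD.GLV, ρ = ((φ ⟨σ, hσ⟩ : Subgroup.closure _) : H379.TD.GLV) := ⟨_, rfl⟩
  have h4 : ρ * H379.TD.gd = H379.TD.gd * H379.TD.gd * ρ := by rw [hρ]; exact h3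
  have h5 : ρ * H379.TD.gd * ρ⁻¹ = H379.TD.gd * H379.TD.gd := by rw [h4, mul_inv_cancel_right]
  apply trace_ne
  rw [← h5]
  exact (LinearMap.trace_conj _ _ ρ).symm

theorem index_K : K.index = 3 := by
  have h1 := index_le
  have h2 : K.index ≠ 0 := Subgroup.index_ne_zero_of_finite
  have h3 : K.index ≠ 1 := by
    intro h
    rw [Subgroup.index_eq_one] at h
    exact σ_not_mem (h ▸ Subgroup.mem_top σ)
  have h4 : K.index ≠ 2 := by
    intro h
    have h5 := Subgroup.sq_mem_of_index_two h σ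
    apply σ_not_mem
    have e : σ = (σ ^ 2) ^ 2 := by
      rw [← pow_mul, show 2 * 2 = 3 + 1 from rfl, pow_succ, σ_cube, one_mul]
    rw [e]
    exact pow_mem h5 2
  omega

theorem card_A : Nat.card A = 634023936 := by
  rw [← K.card_mul_index, card_K, index_K]

end Cfsg.Agent.H347.HX.D42
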